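import Groth.Agent.Lib.EsymmFree.Basic
import Mathlib.RingTheory.Ideal.Maps
import Mathlib.RingTheory.Ideal.Operations

/-! The staircase (Artin) monomial basis of `R[x₁,…,xₙ]` over symmetric polynomials. -/

universe u

open Polynomial (C X)

noncomputable section

namespace Groth.Agent.EsymmStair1

open Groth.Agent.EsymmFree

variable (R : Type u) [CommRing R]

abbrev Stair (n : ℕ) := Π i : Fin n, Fin (n - (i : ℕ))

def mon (n : ℕ) (d : Stair n) : MvPolynomial (Fin n) R := ∏ i : Fin n, MvPolynomial.X i ^ ((d i : ℕ))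

def succEquiv (n : ℕ) : Stair (n + 1) ≃ Stair n × Fin (n + 1) :=
  ((Fin.consEquiv fun i : Fin (n + 1) => Fin (n + 1 - (i : ℕ))).symm).trans
    ((Equiv.prodComm _ _).trans
      (Equiv.prodCongr (Equiv.piCongrRight fun i : Fin n => finCongr (by simp)) (finCongr (by simp))))

theorem isFree_mon [Nontrivial R] : ∀ n, IsFree (σ R n) (mon R n)
  | 0 => by
    have hσ : σ R 0 = RingHom.id _ := MvPolynomial.ringHom_ext (fun r => by simp [σ]) fun i => i.elim0
    rw [IsFree, hσ]
    convert (Equiv.funUnique (Stair 0) (MvPolynomial (Fin 0) R)).bijective using 1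
    funext p
    simp [mon]
  | n + 1 => by
    have h := ((isFree_split R n).comp (isFree_mon n).polynomial).map (MvPolynomial.finSuccEquiv R n).symm.toRingEquiv
    have hφ : (((MvPolynomial.finSuccEquiv R n).symm.toRingEquiv : _ →+* _).comp
        ((Polynomial.mapRingHom (σ R n)).comp (split R n).toRingHom)) = σ R (n + 1) := by
      refine MvPolynomial.ringHom_ext (fun r => ?_) fun k => ?_
      · simp [σ, split]
        exact (MvPolynomial.finSuccEquiv R n).symm_apply_eq.mpr (by simp [MvPolynomial.finSuccEquiv_apply])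
      · change (MvPolynomial.finSuccEquiv R n).symm ((split R n (MvPolynomial.X k)).map (σ R n)) = σ R (n + 1) _
        rw [AlgEquiv.symm_apply_eq, split, MvPolynomial.aeval_X]
        simp only [σ, AlgHom.toRingHom_eq_coe, RingHom.coe_coe, MvPolynomial.aeval_X, finSucc_esymm]
        rw [Polynomial.map_add, Polynomial.map_mul, Polynomial.map_X, Polynomial.map_C, Polynomial.map_C]
        congr 2
        · exact (map_σ_pad R n ((k : ℕ) + 1) (by omega))
        · exact congrArg C (map_σ_pad R n (k : ℕ) (by omega))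
    rw [hφ] at h
    convert h.reindex (succEquiv n) using 1
    funext d
    show mon R (n + 1) d = (MvPolynomial.finSuccEquiv R n).symm
      (Polynomial.mapRingHom (σ R n) (X ^ ((succEquiv n d).2 : ℕ)) * C (mon R n (succEquiv n d).1))
    rw [eq_comm, AlgEquiv.symm_apply_eq]
    simp only [mon, Fin.prod_univ_succ, map_mul, map_pow, map_prod, MvPolynomial.finSuccEquiv_X_zero,
      MvPolynomial.finSuccEquiv_X_succ, Polynomial.coe_mapRingHom, Polynomial.map_X, Polynomial.map_pow]
    rfl

theorem isFree_mon' (n : ℕ) : IsFree (σ R n) (mon R n) := by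
  cases subsingleton_or_nontrivial R
  · exact ⟨fun p q _ => Subsingleton.elim _ _, fun P => ⟨fun _ => 0, Subsingleton.elim _ _⟩⟩
  · exact isFree_mon R n

variable {R} {n : ℕ} (a : Fin n → R)

/-- The ideal of relations `esymm (i+1) = a i`. -/
def relIdeal : Ideal (MvPolynomial (Fin n) R) :=
  Ideal.span (Set.range fun i : Fin n => MvPolynomial.esymm (Fin n) R ((i : ℕ) + 1) - MvPolynomial.C (a i))

theorem σ_sub_eval_mem (p : MvPolynomial (Fin n) R) :
    σ R n p - MvPolynomial.C (MvPolynomial.eval a p) ∈ relIdeal a := by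
  rw [← Ideal.Quotient.eq]
  refine RingHom.congr_fun (show (Ideal.Quotient.mk (relIdeal a)).comp (σ R n) =
    ((Ideal.Quotient.mk (relIdeal a)).comp MvPolynomial.C).comp (MvPolynomial.eval a) from
      MvPolynomial.ringHom_ext (fun r => by simp [σ]) fun i => ?_) p
  simp only [RingHom.comp_apply, MvPolynomial.eval_X, σ, AlgHom.toRingHom_eq_coe, RingHom.coe_coe,
    MvPolynomial.aeval_X]
  exact Ideal.Quotient.eq.2 (Ideal.subset_span ⟨i, rfl⟩)

theorem exists_coord (n : ℕ) (a : Fin n → R) :
    ∃ ev : MvPolynomial (Fin n) R →ₗ[R] (Stair n → R),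
      (∀ p : Stair n → MvPolynomial (Fin n) R,
        ev (∑ d, σ R n (p d) * mon R n d) = fun d => MvPolynomial.eval a (p d)) ∧
      (∀ x, x - ∑ d, MvPolynomial.C (ev x d) * mon R n d ∈ relIdeal a) ∧
      ∀ x ∈ relIdeal a, ev x = 0 := by
  classical
  have hb := isFree_mon' R n
  let Φ : (Stair n → MvPolynomial (Fin n) R) →ₗ[R] MvPolynomial (Fin n) R :=
    { toFun := fun p => ∑ d, σ R n (p d) * mon R n d
      map_add' := fun p q => by simp [add_mul, Finset.sum_add_distrib]
      map_smul' := fun r p => by simp [σ, Finset.smul_sum] }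
  let e := LinearEquiv.ofBijective Φ hb
  let E : (Stair n → MvPolynomial (Fin n) R) →ₗ[R] (Stair n → R) :=
    LinearMap.pi fun d => (MvPolynomial.aeval a).toLinearMap ∘ₗ LinearMap.proj d
  refine ⟨E ∘ₗ e.symm.toLinearMap, fun p => ?_, fun x => ?_, fun x hx => ?_⟩
  · have h1 : e.symm (∑ d, σ R n (p d) * mon R n d) = p := e.symm_apply_apply p
    rw [LinearMap.comp_apply, LinearEquiv.coe_coe, h1]
    funext d
    simp [E]
  · obtain ⟨p, rfl⟩ := e.surjective x
    simp only [LinearMap.comp_apply, LinearEquiv.coe_coe, e.symm_apply_apply]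
    show ∑ d, σ R n (p d) * mon R n d - _ ∈ _
    rw [← Finset.sum_sub_distrib]
    refine Ideal.sum_mem _ fun d _ => ?_
    rw [← sub_mul]
    exact Ideal.mul_mem_right _ _ (σ_sub_eval_mem a (p d))
  · obtain ⟨g, rfl⟩ := Ideal.mem_span_range_iff_exists_fun.1 hx
    rw [map_sum]
    refine Finset.sum_eq_zero fun i _ => ?_
    obtain ⟨q, hq⟩ := hb.2 (g i)
    have e1 : g i * (MvPolynomial.esymm (Fin n) R ((i : ℕ) + 1) - MvPolynomial.C (a i)) =
        ∑ d, σ R n (q d * (MvPolynomial.X i - MvPolynomial.C (a i))) * mon R n d := by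
      rw [← hq, Finset.sum_mul]
      exact Finset.sum_congr rfl fun d _ => by simp [σ]; ring
    rw [e1]
    simp only [LinearMap.comp_apply, LinearEquiv.coe_coe]
    rw [show e.symm (∑ d, σ R n (q d * (MvPolynomial.X i - MvPolynomial.C (a i))) * mon R n d) =
      fun d => q d * (MvPolynomial.X i - MvPolynomial.C (a i)) from e.symm_apply_apply _]
    funext d
    simp [E]

theorem mem_sup_iff (n : ℕ) (a : Fin n → R) (J : Ideal R) (ev : MvPolynomial (Fin n) R →ₗ[R] (Stair n → R))
    (h2 : ∀ x, x - ∑ d, MvPolynomial.C (ev x d) * mon R n d ∈ relIdeal a) (h3 : ∀ x ∈ relIdeal a, ev x = 0)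
    (x : MvPolynomial (Fin n) R) :
    x ∈ relIdeal a ⊔ J.map (MvPolynomial.C : R →+* MvPolynomial (Fin n) R) ↔ ∀ d, ev x d ∈ J := by
  constructor
  · intro hx d
    obtain ⟨y, hy, z, hz, rfl⟩ := Submodule.mem_sup.1 hx
    rw [map_add, h3 y hy, zero_add]
    replace hz : z ∈ J • (⊤ : Submodule R (MvPolynomial (Fin n) R)) := by
      rw [Ideal.smul_top_eq_map, Submodule.restrictScalars_mem, MvPolynomial.algebraMap_eq]; exact hz
    refine Submodule.smul_induction_on hz (fun r hr w _ => ?_) (fun u v hu hv => ?_)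
    · rw [map_smul]; exact J.mul_mem_right _ hr
    · rw [map_add]; exact J.add_mem hu hv
  · intro h
    rw [← sub_add_cancel x (∑ d, MvPolynomial.C (ev x d) * mon R n d)]
    exact Submodule.add_mem_sup (h2 x)
      (Ideal.sum_mem _ fun d _ => Ideal.mul_mem_right _ _ (Ideal.mem_map_of_mem _ (h d)))

theorem ev_staircase (n : ℕ) (a : Fin n → R) (ev : MvPolynomial (Fin n) R →ₗ[R] (Stair n → R))
    (h1 : ∀ p : Stair n → MvPolynomial (Fin n) R,
      ev (∑ d, σ R n (p d) * mon R n d) = fun d => MvPolynomial.eval a (p d))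
    (α : Stair n → R) : ev (∑ d, MvPolynomial.C (α d) * mon R n d) = α := by
  have h := h1 fun d => MvPolynomial.C (α d)
  simpa [σ] using h

end Groth.Agent.EsymmStair1

end
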